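import Mathlib
import Cfsg.Agent.ThreeTransp.M22PairMain25

/-!
Type M(22): two common neighbours of a commuting pair that commute with the same common neighbours
differ by an element of the normal 2-subgroup of the centralizer of the pair.
-/

set_option autoImplicit false

namespace CfsgLib.ThreeTransp.Pair43

open Cfsg PSU62
open CfsgLib.ThreeTransp CfsgLib.ThreeTransp.Pair25 CfsgLib.ThreeTransp.U62Point

universe u

section FourSpace

variable {F : Type} [Field F] [Fintype F]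

/-- An isotropic vector separating an isotropic point from an orthogonal one. -/
theorem exists_iso_sep43 (hF : Fintype.card F = 4) {q r : Fin 4 → F}
    (hr : hermForm 4 F 2 r r = 0) (hrq : hermForm 4 F 2 r q = 0)
    (hq0 : q ≠ 0) (hne : ∀ k : F, r ≠ k • q) :
    ∃ u, hermForm 4 F 2 u u = 0 ∧ hermForm 4 F 2 u q = 0 ∧ hermForm 4 F 2 u r = 1 := by
  classical
  have hsq := PSU62.card_sq hF
  obtain ⟨x, hxq, hxr⟩ : ∃ x, hermForm 4 F 2 x q = 0 ∧ hermForm 4 F 2 x r = 1 := by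
    by_contra hcon
    push Not at hcon
    obtain ⟨y, hy⟩ : ∃ y, hermForm 4 F 2 y q = 1 := by
      obtain ⟨y, hy⟩ := not_forall.1 (fun h => hq0 (CfsgLib.Unitary.herm_nondeg hsq q fun z =>
        CfsgLib.Unitary.herm_eq_zero_comm hsq (h z)))
      exact ⟨(hermForm 4 F 2 y q)⁻¹ • y, by
        rw [CfsgLib.Unitary.herm_smul_left, inv_mul_cancel₀ hy]⟩
    have h0 : ∀ z, hermForm 4 F 2 z q = 0 → hermForm 4 F 2 z r = 0 := by
      intro z hz
      by_contra hzr
      exact hcon ((hermForm 4 F 2 z r)⁻¹ • z)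
        (by rw [CfsgLib.Unitary.herm_smul_left, hz, mul_zero])
        (by rw [CfsgLib.Unitary.herm_smul_left, inv_mul_cancel₀ hzr])
    refine hne (hermForm 4 F 2 y r ^ 2) (sub_eq_zero.1 (CfsgLib.Unitary.herm_nondeg hsq _ fun z =>
      CfsgLib.Unitary.herm_eq_zero_comm hsq ?_))
    have h1 := h0 (z + (-(hermForm 4 F 2 z q)) • y) (by
      rw [CfsgLib.Unitary.herm_add_left, CfsgLib.Unitary.herm_smul_left, hy]; ring)
    rw [CfsgLib.Unitary.herm_add_left, CfsgLib.Unitary.herm_smul_left] at h1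
    rw [CfsgLib.Unitary.herm_sub_right hsq, CfsgLib.Unitary.herm_smul_right, ← pow_mul,
      show 2 * 2 = 4 from rfl, F4.pow_four hF]
    linear_combination h1
  have hrx : hermForm 4 F 2 r x = 1 := by
    rw [CfsgLib.Unitary.herm_conj hsq x r, hxr, one_pow]
  obtain ⟨c, hc⟩ : ∃ c : F, hermForm 4 F 2 x x + c + c ^ 2 = 0 := by
    have h2 := F4.two_eq_zero hF
    rcases eq_or_ne (hermForm 4 F 2 x x) 0 with h | h
    · exact ⟨0, by simp [h]⟩
    · have hfix : hermForm 4 F 2 x x ^ 2 = hermForm 4 F 2 x x :=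
        (CfsgLib.Unitary.herm_conj hsq x x).symm
      have h1 : hermForm 4 F 2 x x = 1 :=
        mul_left_cancel₀ h (by rw [← pow_two, hfix, mul_one])
      obtain ⟨w, hw0, hw1⟩ : ∃ w : F, w ≠ 0 ∧ w ≠ 1 := by
        obtain ⟨w, hw⟩ : ∃ w : F, w ∉ ({0, 1} : Finset F) := by
          by_contra hall
          push Not at hall
          have := Finset.card_le_card (fun w (_ : w ∈ (Finset.univ : Finset F)) => hall w)
          rw [Finset.card_univ, hF] at this
          have h' := Finset.card_le_two (a := (0 : F)) (b := 1)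
          omega
        simp only [Finset.mem_insert, Finset.mem_singleton, not_or] at hw
        exact ⟨w, hw.1, hw.2⟩
      refine ⟨w, ?_⟩
      have hw3 := F4.cube_eq_one hF hw0
      have : (w - 1) * (w ^ 2 + w + 1) = 0 := by linear_combination hw3
      have := (mul_eq_zero.1 this).resolve_left (sub_ne_zero.2 hw1)
      rw [h1]; linear_combination this
  refine ⟨x + c • r, ?_, ?_, ?_⟩
  · rw [CfsgLib.Unitary.herm_add_left, CfsgLib.Unitary.herm_add_right hsq,
      CfsgLib.Unitary.herm_add_right hsq, CfsgLib.Unitary.herm_smul_left,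
      CfsgLib.Unitary.herm_smul_left, CfsgLib.Unitary.herm_smul_right,
      CfsgLib.Unitary.herm_smul_right, hxr, hrx, hr]
    linear_combination hc
  · rw [CfsgLib.Unitary.herm_add_left, CfsgLib.Unitary.herm_smul_left, hxq, hrq, mul_zero,
      add_zero]
  · rw [CfsgLib.Unitary.herm_add_left, CfsgLib.Unitary.herm_smul_left, hxr, hr, mul_zero,
      add_zero]

end FourSpace

variable {G : Type u} [Group G] [Finite G] {D : Set G} (hG : IsThreeTranspositionGroup D)
  (hp : IsPrimitiveUnderConj D) (h22 : IsOfTypeM22 G D)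
include hG hp h22

set_option maxHeartbeats 800000 in
/-- Common neighbours of `a, b` with the same commuting sets differ by an element of `E`. -/
theorem fibre_mem43 {a b : G} (ha : a ∈ D) (hb : b ∈ nbr D a) {K C E : Subgroup G}
    (hK : K = Subgroup.centralizer ({a, b} : Set G)) (hE : PairStruct a b K C E)
    {y y' : G} (hya : y ∈ nbr D a) (hyb : y ∈ nbr D b) (hy'a : y' ∈ nbr D a) (hy'b : y' ∈ nbr D b)
    (hsame : ∀ w, w ∈ nbr D a → w ∈ nbr D b → (Commute y' w ↔ Commute y w)) :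
    y' * y⁻¹ ∈ E := by
  classical
  have hD := hG.1
  obtain ⟨M⟩ := m22_pointModel hG h22 ha
  have hF := M.hF
  have hsq := PSU62.card_sq hF
  subst hK
  obtain ⟨χ, hχs, hχk, hχn⟩ := exists_pair_hom hG hp h22 ha hb M
  obtain ⟨f, g, Co⟩ := exists_coord hF (M.iso b hb).2 (M.iso b hb).1
  obtain ⟨Φ₀, hΦ₀⟩ : ∃ Φ₀ : ↥(Subgroup.centralizer ({a, b} : Set G)) →* ↥(SU 4 M.F 2),
      Φ₀ = (res hF Co).comp χ := ⟨_, rfl⟩
  have hΦs : Function.Surjective Φ₀ := by
    rw [hΦ₀]; exact (res_surjective hF Co).comp hχs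
  have hperp : ∀ w, w ∈ nbr D a → w ∈ nbr D b → PSU62.hm (M.pt w) (M.pt b) = 0 :=
    fun w hwa hwb => (M.comm b hb w hwa).1 hwb.2.2
  have hSK : ∀ w, w ∈ nbr D a → w ∈ nbr D b → w ∈ Subgroup.centralizer ({a, b} : Set G) :=
    fun w hwa hwb => mem_centralizer_pair.2 ⟨hwa.2.2.symm, hwb.2.2.symm⟩
  have hΦy : ∀ (w : G) (hwa : w ∈ nbr D a) (hwb : w ∈ nbr D b),
      Φ₀ ⟨w, hSK w hwa hwb⟩ = tv4 hF (coord g (M.pt w)) := by
    intro w hwa hwb
    rw [hΦ₀, MonoidHom.comp_apply, ← res_tv hF Co (M.iso w hwa).1 (hperp w hwa hwb)]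
    exact congrArg _ (Subtype.ext (hχn ⟨w, hSK w hwa hwb⟩ hwa (hperp w hwa hwb)))
  -- the kernel is `E`
  have hker : ∀ x : G, ∀ hx : x ∈ Subgroup.centralizer ({a, b} : Set G),
      Φ₀ ⟨x, hx⟩ = 1 → x ∈ E := by
    have h2 : IsPGroup 2 ↥E := by
      haveI : Fact (Nat.Prime 2) := ⟨Nat.prime_two⟩
      exact IsPGroup.of_card hE.card
    obtain ⟨N, hN⟩ : ∃ N, N = E.subgroupOf (Subgroup.centralizer ({a, b} : Set G)) := ⟨_, rfl⟩
    haveI hNn : N.Normal := by
      refine ⟨fun n hn k => ?_⟩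
      rw [hN, Subgroup.mem_subgroupOf] at hn ⊢
      have := hE.normal.conj_mem ⟨n, hE.le n.2⟩ hn ⟨k, hE.le k.2⟩
      exact this
    haveI : (N.map Φ₀).Normal := hNn.map Φ₀ hΦs
    have hNk : N ≤ Φ₀.ker := by
      rw [← Subgroup.map_eq_bot_iff]
      exact normal_twoGroup_su4_eq_bot hF _ ((hN ▸ h2.of_equiv
        (Subgroup.subgroupOfEquivOfLe hE.hEK).symm).map Φ₀)
    have hcard : Nat.card ↥Φ₀.ker = 2 ^ 10 := by
      have h1 := Subgroup.card_eq_card_quotient_mul_card_subgroup Φ₀.ker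
      rw [Nat.card_congr (QuotientGroup.quotientKerEquivOfSurjective Φ₀ hΦs).toEquiv,
        card_SU_four hF] at h1
      have h3 := card_centralizer_pair hG hp h22 ha hb
      rw [h1] at h3
      omega
    have heq : N = Φ₀.ker := Subgroup.eq_of_le_of_card_ge hNk (by
      rw [hcard, hN, Nat.card_congr (Subgroup.subgroupOfEquivOfLe hE.hEK).toEquiv, hE.card])
    intro x hx h
    have : (⟨x, hx⟩ : ↥(Subgroup.centralizer ({a, b} : Set G))) ∈ N := heq ▸ MonoidHom.mem_ker.2 h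
    rw [hN, Subgroup.mem_subgroupOf] at this
    exact this
  -- the coordinates
  have hiso : ∀ w, w ∈ nbr D a → w ∈ nbr D b →
      hermForm 4 M.F 2 (coord g (M.pt w)) (coord g (M.pt w)) = 0 := fun w hwa hwb => by
    rw [← Co.hm_coord hF (hperp w hwa hwb) (hperp w hwa hwb)]; exact (M.iso w hwa).1
  have hnz : ∀ w, w ∈ nbr D a → w ∈ nbr D b → coord g (M.pt w) ≠ 0 := fun w hwa hwb h =>
    M.pt_not_smul hwa hb hwb.2.1 _ (Co.eq_smul hF (hperp w hwa hwb) h)
  have hcomm : ∀ w z, w ∈ nbr D a → w ∈ nbr D b → z ∈ nbr D a → z ∈ nbr D b →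
      (Commute w z ↔ hermForm 4 M.F 2 (coord g (M.pt z)) (coord g (M.pt w)) = 0) :=
    fun w z hwa hwb hza hzb => by
      rw [← Co.hm_coord hF (hperp z hza hzb) (hperp w hwa hwb)]; exact M.comm w hwa z hza
  obtain ⟨q, hq⟩ : ∃ q, coord g (M.pt y) = q := ⟨_, rfl⟩
  obtain ⟨r, hr⟩ : ∃ r, coord g (M.pt y') = r := ⟨_, rfl⟩
  have hrq : hermForm 4 M.F 2 r q = 0 := by
    rw [← hq, ← hr]
    exact (hcomm y y' hya hyb hy'a hy'b).1
      ((hsame y hya hyb).2 (Commute.refl y)).symm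
  obtain ⟨k, hk⟩ : ∃ k : M.F, r = k • q := by
    by_contra hcon
    push Not at hcon
    obtain ⟨u, hu, huq, hur⟩ := exists_iso_sep43 hF
      (hr ▸ hiso y' hy'a hy'b) hrq (hq ▸ hnz y hya hyb) hcon
    have hv : hm (lift4 g u) (lift4 g u) = 0 := by
      rw [Co.hm_coord hF (Co.lift_perp u) (Co.lift_perp u), Co.coord_lift hF]; exact hu
    have hu0 : u ≠ 0 := fun h => by
      rw [h, CfsgLib.Unitary.herm_zero_left] at hur; exact zero_ne_one hur
    have hv0 : lift4 g u ≠ 0 := fun h => hu0 (by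
      rw [← Co.coord_lift hF u, h]; exact funext fun i => PSU62.hm_zeroL _)
    obtain ⟨w, hwa, hw⟩ := M.onto _ hv hv0
    obtain ⟨c, hc, hcv⟩ := PSU62.tp_inj hF (M.iso w hwa).1 hv (M.iso w hwa).2 hv0 hw
    have hcu : u = c • coord g (M.pt w) := by
      rw [← coord_smul, ← hcv, Co.coord_lift hF]
    have hwb : w ∈ nbr D b := by
      refine ⟨hwa.1, fun h => hu0 ?_, ?_⟩
      · rw [hcu, h, Co.coord_p hF, smul_zero]
      · refine (M.comm b hb w hwa).2 ?_
        have := Co.lift_perp u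
        rwa [hcv, PSU62.hm_smulL, mul_eq_zero, or_iff_right hc] at this
    have h1 : Commute y w := by
      rw [hcomm y w hya hyb hwa hwb, hq]
      rw [hcu, CfsgLib.Unitary.herm_smul_left, mul_eq_zero, or_iff_right hc] at huq
      exact huq
    have h2 := (hcomm y' w hy'a hy'b hwa hwb).1 ((hsame w hwa hwb).2 h1)
    rw [hcu, CfsgLib.Unitary.herm_smul_left, ← hr, h2, mul_zero] at hur
    exact zero_ne_one hur
  have hk0 : k ≠ 0 := fun h => hnz y' hy'a hy'b (by rw [hr, hk, h, zero_smul])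
  have htv : tv4 hF r = tv4 hF q := by
    have hq' : hermForm 4 M.F 2 q q = 0 := hq ▸ hiso y hya hyb
    have hr' : hermForm 4 M.F 2 r r = 0 := hr ▸ hiso y' hy'a hy'b
    refine CfsgLib.Unitary.sv_ext fun x => ?_
    rw [sv_tv4 hF hr', sv_tv4 hF hq', hk, CfsgLib.Unitary.herm_smul_right, smul_smul,
      show k ^ 2 * hermForm 4 M.F 2 x q * k = k ^ 3 * hermForm 4 M.F 2 x q by ring,
      F4.cube_eq_one hF hk0, one_mul]
  have hprod : Φ₀ (⟨y', hSK y' hy'a hy'b⟩ * (⟨y, hSK y hya hyb⟩ :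
      ↥(Subgroup.centralizer ({a, b} : Set G)))⁻¹) = 1 := by
    rw [map_mul, map_inv, hΦy y' hy'a hy'b, hΦy y hya hyb, hr, hq, htv, mul_inv_cancel]
  exact hker _ _ hprod

end CfsgLib.ThreeTransp.Pair43
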