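import Mathlib
import Cfsg.Prelude.Def_CaseTheorems
import Cfsg.Agent.Eq.Def_CaseTheorems
import Cfsg.Agent.LocalP.Basic

/-!
The largest normal `p`-subgroup of a quasisimple group is central.
-/

set_option autoImplicit false

namespace CfsgLib.ThreeTransp.Cover58

theorem pCore_le_center_quasisimple {K : Type*} [Group K] [Finite K] (h : Cfsg.IsQuasisimple K)
    (p : ℕ) [hp : Fact p.Prime] : Cfsg.pCore p K ≤ Subgroup.center K := by
  obtain ⟨hperf, hs⟩ := h
  haveI := hs
  obtain ⟨M, hM⟩ : ∃ M, M = (Cfsg.pCore p K).map (QuotientGroup.mk' (Subgroup.center K)) := ⟨_, rfl⟩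
  haveI : M.Normal := hM ▸ Subgroup.Normal.map inferInstance _ (QuotientGroup.mk'_surjective _)
  rcases IsSimpleGroup.eq_bot_or_eq_top_of_normal M inferInstance with e | e
  · intro x hx
    rw [← QuotientGroup.eq_one_iff]
    have hm : (QuotientGroup.mk' (Subgroup.center K)) x ∈ M := hM ▸ Subgroup.mem_map_of_mem _ hx
    rwa [e, Subgroup.mem_bot] at hm
  · exfalso
    have hpg : IsPGroup p ↥M := hM ▸ (CfsgLib.LocalP.isPGroup_pCore).map _
    have hpq : IsPGroup p (K ⧸ Subgroup.center K) :=
      (e ▸ hpg : IsPGroup p ↥(⊤ : Subgroup (K ⧸ Subgroup.center K))).of_equiv Subgroup.topEquiv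
    haveI := hpq.isNilpotent
    haveI := hperf
    exact Group.IsPerfect.not_isSolvable (G := K ⧸ Subgroup.center K) inferInstance

end CfsgLib.ThreeTransp.Cover58
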