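import Mathlib
import Cfsg.Agent.ThreeTransp.PSU62Geom

/-!
A five-cycle of coordinates in `PSU(6, 2)`: it is a product of four transvections, and its
centralizer has order at most thirty.
-/

set_option autoImplicit false

namespace CfsgLib.ThreeTransp.PSU62.Five43

open Cfsg Matrix CfsgLib.Unitary

variable {F : Type*} [Field F] [Fintype F]

/-- The sum of two successive coordinate vectors. -/
def adjVec (i : Fin 4) : Fin 6 → F :=
  fun j => if j = Fin.castLE (by norm_num) i ∨ j = i.succ.castLE (by norm_num) then 1 else 0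

/-- The coordinate shift. -/
def sh : Fin 6 → Fin 6 := ![4, 0, 1, 2, 3, 5]

theorem adjVec_iso (hF : Fintype.card F = 4) (i : Fin 4) :
    hm (adjVec i : Fin 6 → F) (adjVec i) = 0 := by
  fin_cases i <;> simp [hm, hermForm, adjVec, Fin.sum_univ_succ, F4.two_eq_zero hF,
    one_add_one_eq_two, two_zero hF]

theorem adjVec_ne (i : Fin 4) : (adjVec i : Fin 6 → F) ≠ 0 := by
  intro h
  have := congrFun h (Fin.castLE (by norm_num) i)
  simp [adjVec] at this

theorem adjVec_hm (hF : Fintype.card F = 4) :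
    hm (adjVec 0 : Fin 6 → F) (adjVec 1) ≠ 0 ∧ hm (adjVec 1 : Fin 6 → F) (adjVec 2) ≠ 0 ∧
    hm (adjVec 2 : Fin 6 → F) (adjVec 3) ≠ 0 ∧ hm (adjVec 0 : Fin 6 → F) (adjVec 2) = 0 ∧
    hm (adjVec 0 : Fin 6 → F) (adjVec 3) = 0 ∧ hm (adjVec 1 : Fin 6 → F) (adjVec 3) = 0 := by
  refine ⟨?_, ?_, ?_, ?_, ?_, ?_⟩ <;> simp [hm, hermForm, adjVec, Fin.sum_univ_succ]

theorem sv_swap (hF : Fintype.card F = 4) (i : Fin 4) (x : Fin 6 → F) :
    sv (tv hF (adjVec i)) x =
      fun j => x (Equiv.swap (Fin.castLE (by norm_num) i : Fin 6) (i.succ.castLE (by norm_num)) j) := by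
  have h2 : ∀ a b : F, a + (a + b) = b := fun a b => by rw [← add_assoc, F4.add_self hF, zero_add]
  have h2' : ∀ a b : F, b + (a + b) = a := fun a b => by rw [add_comm a b, h2]
  funext j
  rw [sv_tv hF (adjVec_iso hF i), Pi.add_apply, Pi.smul_apply, smul_eq_mul]
  fin_cases i <;> fin_cases j <;>
    simp [hm, hermForm, adjVec, Fin.sum_univ_succ, Equiv.swap_apply_def, h2, h2']

/-- The five-cycle. -/
noncomputable def fiveSU (hF : Fintype.card F = 4) : ↥(SU 6 F 2) :=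
  tv hF (adjVec 0) * tv hF (adjVec 1) * tv hF (adjVec 2) * tv hF (adjVec 3)

theorem sv_five (hF : Fintype.card F = 4) (x : Fin 6 → F) :
    sv (fiveSU hF) x = fun i => x (sh i) := by
  unfold fiveSU
  rw [sv_mul, sv_mul, sv_mul, sv_swap, sv_swap, sv_swap, sv_swap]
  funext i
  exact congrArg x (by fin_cases i <;> decide)

theorem mk_five (hF : Fintype.card F = 4) :
    (QuotientGroup.mk (fiveSU hF) : PSU 6 F 2) =
      tp hF (adjVec 0) * tp hF (adjVec 1) * tp hF (adjVec 2) * tp hF (adjVec 3) := rfl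

theorem mat_five (hF : Fintype.card F = 4) (x : Fin 6 → F) :
    mat (fiveSU hF) *ᵥ x = fun i => x (sh i) := sv_five hF x

theorem five_pow (hF : Fintype.card F = 4) : fiveSU hF ^ 5 = 1 := by
  refine sv_ext fun x => ?_
  simp only [pow_succ, pow_zero, one_mul, sv_mul, sv_five, sv_one]
  funext i
  exact congrArg x (by fin_cases i <;> decide)

theorem five_ne_center (hF : Fintype.card F = 4) :
    (QuotientGroup.mk (fiveSU hF) : PSU 6 F 2) ≠ 1 := by
  intro h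
  obtain ⟨c, hc0, hc⟩ := center_sv hF ((QuotientGroup.eq_one_iff _).1 h)
  have := congrFun (hc (Pi.single 0 1)) 1
  rw [sv_five] at this
  simp [sh] at this

/-- The fixed sum. -/
def uVec : Fin 6 → F := ![1, 1, 1, 1, 1, 0]

/-- The last coordinate vector. -/
def lVec : Fin 6 → F := ![0, 0, 0, 0, 0, 1]

variable (hF : Fintype.card F = 4) {w : F} (hw3 : w ^ 3 = 1) (hws : w + w ^ 2 = 1)
include hF hw3 hws

/-- A map commuting with the five-cycle, preserving the form and fixing three given vectors. -/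
theorem five_free {M : Matrix (Fin 6) (Fin 6) F} (hM : Commute M (mat (fiveSU hF)))
    (hMp : ∀ x y, hm (M *ᵥ x) (M *ᵥ y) = hm x y) (hu : M *ᵥ uVec = uVec) (hl : M *ᵥ lVec = lVec)
    (hw0 : M *ᵥ ![1, 0, 1, w, w, 0] = ![1, 0, 1, w, w, 0]) : M = 1 := by
  haveI : CharP F 2 := CharP.ringChar_of_prime_eq_zero Nat.prime_two (by
    exact_mod_cast two_zero hF) ▸ ringChar.charP F
  obtain ⟨A, hA⟩ : ∃ A, mat (fiveSU hF) = A := ⟨_, rfl⟩
  have hAx : ∀ x, A *ᵥ x = fun i => x (sh i) := fun x => hA ▸ mat_five hF x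
  rw [hA] at hM
  have hfixA : ∀ x, M *ᵥ x = x → M *ᵥ (A *ᵥ x) = A *ᵥ x := fun x hx => by
    rw [mulVec_mulVec, hM.eq, ← mulVec_mulVec, hx]
  have hAp : ∀ x y, hm (A *ᵥ x) (A *ᵥ y) = hm x y := hA ▸ (mem_SU_iff _).1 (fiveSU hF).2
  have hsq : w ^ 2 = w + 1 := by linear_combination hws - w * two_zero hF
  -- the image of the second vector
  obtain ⟨v, hv⟩ : ∃ v : Fin 6 → F, v = ![1, 0, 1, w ^ 2, w ^ 2, 0] := ⟨_, rfl⟩
  obtain ⟨p, hp⟩ : ∃ p : Fin 6 → F, p = ![1, 0, 1, w, w, 0] := ⟨_, rfl⟩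
  rw [← hp] at hw0
  have hvA : A *ᵥ (A *ᵥ v) + w ^ 2 • (A *ᵥ v) + v = 0 := by
    rw [hv, hAx, hAx]
    funext i
    fin_cases i <;> simp [sh] <;> grind
  obtain ⟨z, hz⟩ : ∃ z, z = M *ᵥ v + v := ⟨_, rfl⟩
  have hzA : A *ᵥ (A *ᵥ z) + w ^ 2 • (A *ᵥ z) + z = 0 := by
    have h1 : ∀ x, M *ᵥ (A *ᵥ x) = A *ᵥ (M *ᵥ x) := fun x => by
      rw [mulVec_mulVec, hM.eq, ← mulVec_mulVec]
    have h2 := congrArg (M *ᵥ ·) hvA
    simp only [mulVec_add, mulVec_smul, h1, mulVec_zero] at h2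
    rw [hz, mulVec_add, mulVec_add, smul_add]
    calc _ = (A *ᵥ (A *ᵥ (M *ᵥ v)) + w ^ 2 • (A *ᵥ (M *ᵥ v)) + M *ᵥ v) +
          (A *ᵥ (A *ᵥ v) + w ^ 2 • (A *ᵥ v) + v) := by abel
      _ = 0 := by rw [h2, hvA, add_zero]
  have horth : ∀ x, M *ᵥ x = x → hm z x = 0 := fun x hx => by
    rw [hz, hm_addL]
    conv_lhs => arg 1; rw [← hx]
    rw [hMp, F4.add_self hF]
  have e1 := horth p hw0
  have e2 := horth _ (hfixA p hw0)
  rw [hAx, hAx] at hzA
  have r2 := congrFun hzA 2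
  have r3 := congrFun hzA 3
  have r4 := congrFun hzA 4
  have r5 := congrFun hzA 5
  simp [sh] at r2 r3 r4 r5
  rw [hAx] at e2
  simp [hm, hermForm, hp, sh, Fin.sum_univ_succ] at e1 e2
  have z5 : z 5 = 0 := by grind
  have z1 : z 1 = 0 := by grind
  have z0 : z 0 = 0 := by grind
  have z2 : z 2 = 0 := by grind
  have z3 : z 3 = 0 := by grind
  have z4 : z 4 = 0 := by grind
  have hMv : M *ᵥ v = v := by
    have : z = 0 := by
      funext i
      fin_cases i <;> assumption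
    rw [hz] at this
    rw [eq_neg_of_add_eq_zero_left this]
    funext i
    exact F4.neg_eq hF _
  -- adjacent sums are fixed
  have h34 : M *ᵥ ![0, 0, 0, 1, 1, 0] = ![0, 0, 0, 1, 1, 0] := by
    have e : (![0, 0, 0, 1, 1, 0] : Fin 6 → F) = p + v := by
      rw [hp, hv]; funext i; fin_cases i <;> simp [hws, F4.two_eq_zero hF, two_zero hF, one_add_one_eq_two]
    rw [e, mulVec_add, hw0, hMv]
  have step : ∀ x y : Fin 6 → F, M *ᵥ x = x → (fun i => x (sh i)) = y → M *ᵥ y = y :=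
    fun x y hx e => by rw [← e, ← hAx]; exact hfixA x hx
  have h40 := step _ ![1, 0, 0, 0, 1, 0] h34 (by funext i; fin_cases i <;> simp [sh])
  have h01 := step _ ![1, 1, 0, 0, 0, 0] h40 (by funext i; fin_cases i <;> simp [sh])
  have h12 := step _ ![0, 1, 1, 0, 0, 0] h01 (by funext i; fin_cases i <;> simp [sh])
  have h0 : M *ᵥ ![1, 0, 0, 0, 0, 0] = ![1, 0, 0, 0, 0, 0] := by
    have e : (![1, 0, 0, 0, 0, 0] : Fin 6 → F) = uVec + (![0, 1, 1, 0, 0, 0] + ![0, 0, 0, 1, 1, 0]) := by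
      funext i; fin_cases i <;> simp [uVec, F4.two_eq_zero hF, two_zero hF, one_add_one_eq_two]
    rw [e, mulVec_add, mulVec_add, hu, h12, h34]
  have h1 := step _ ![0, 1, 0, 0, 0, 0] h0 (by funext i; fin_cases i <;> simp [sh])
  have h2 := step _ ![0, 0, 1, 0, 0, 0] h1 (by funext i; fin_cases i <;> simp [sh])
  have h3 := step _ ![0, 0, 0, 1, 0, 0] h2 (by funext i; fin_cases i <;> simp [sh])
  have h4 := step _ ![0, 0, 0, 0, 1, 0] h3 (by funext i; fin_cases i <;> simp [sh])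
  refine Matrix.toLin'.injective (LinearMap.ext fun x => ?_)
  have ex : x = x 0 • ![1, 0, 0, 0, 0, 0] + x 1 • ![0, 1, 0, 0, 0, 0] + x 2 • ![0, 0, 1, 0, 0, 0]
      + x 3 • ![0, 0, 0, 1, 0, 0] + x 4 • ![0, 0, 0, 0, 1, 0] + x 5 • lVec := by
    funext i; fin_cases i <;> simp [lVec]
  rw [Matrix.toLin'_apply, Matrix.toLin'_apply, one_mulVec, ex]
  simp only [mulVec_add, mulVec_smul, h0, h1, h2, h3, h4, hl]

set_option maxHeartbeats 800000 in
/-- The centralizer of the five-cycle in `SU(6, 2)` has order at most ninety. -/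
theorem five_card_centralizer :
    Nat.card ↥(Subgroup.centralizer ({fiveSU hF} : Set (SU 6 F 2))) ≤ 90 := by
  classical
  haveI : CharP F 2 := CharP.ringChar_of_prime_eq_zero Nat.prime_two (by
    exact_mod_cast two_zero hF) ▸ ringChar.charP F
  obtain ⟨A, hA⟩ : ∃ A, mat (fiveSU hF) = A := ⟨_, rfl⟩
  have hAx : ∀ x, A *ᵥ x = fun i => x (sh i) := fun x => hA ▸ mat_five hF x
  have hw0 : w ≠ 0 := fun h => by rw [h] at hw3; simp at hw3
  obtain ⟨Dm, hDm⟩ : ∃ Dm : Fˣ → Matrix (Fin 6) (Fin 6) F,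
      Dm = fun (m : Fˣ) => Matrix.diagonal ![1, 1, 1, 1, 1, ((m : Fˣ) : F)] :=
    ⟨fun (m : Fˣ) => Matrix.diagonal ![1, 1, 1, 1, 1, (m : F)], rfl⟩
  have hDx : ∀ m x, Dm m *ᵥ x = fun i => ![1, 1, 1, 1, 1, (m : F)] i * x i := fun m x => by
    funext i; rw [hDm, Matrix.mulVec_diagonal]
  have hm3 : ∀ m : Fˣ, (m : F) * (m : F) ^ 2 = 1 := fun m => by
    rw [← pow_succ', F4.cube_eq_one hF m.ne_zero]
  have hDp : ∀ m x y, hm (Dm m *ᵥ x) (Dm m *ᵥ y) = hm x y := by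
    intro m x y
    show hermForm 6 F 2 _ _ = hermForm 6 F 2 x y
    simp only [hermForm, hDx]
    refine Finset.sum_congr rfl fun i _ => ?_
    have : (![1, 1, 1, 1, 1, (m : F)] i) * (![1, 1, 1, 1, 1, (m : F)] i) ^ 2 = 1 := by
      fin_cases i <;> simp [hm3 m]
    linear_combination (x i * y i ^ 2) * this
  have hgp : ∀ (g : ↥(SU 6 F 2)) (x y : Fin 6 → F), hm (mat g *ᵥ x) (mat g *ᵥ y) = hm x y :=
    fun g => (mem_SU_iff _).1 g.2
  obtain ⟨C, hC⟩ : ∃ C : Subgroup ↥(SU 6 F 2),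
      C = Subgroup.centralizer ({fiveSU hF} : Set (SU 6 F 2)) := ⟨_, rfl⟩
  rw [← hC]
  obtain ⟨Φ, hΦ⟩ : ∃ Φ : ↥C × Fˣ → Matrix (Fin 6) (Fin 6) F,
      Φ = fun q => mat (q.1 : SU 6 F 2) * Dm q.2 := ⟨_, rfl⟩
  have hΦc : ∀ q, Commute (Φ q) A := by
    intro q
    have h1 : Commute (mat (q.1 : SU 6 F 2)) A := by
      show _ = _
      rw [← hA, ← mat_mul, ← mat_mul, Subgroup.mem_centralizer_singleton_iff.1 (hC ▸ q.1.2)]
    have h2 : Commute (Dm q.2) A := by
      refine Matrix.toLin'.injective (LinearMap.ext fun x => ?_)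
      simp only [Matrix.toLin'_apply, ← mulVec_mulVec, hAx, hDx]
      funext i
      fin_cases i <;> simp [sh]
    rw [hΦ]; exact h1.mul_left h2
  have hΦp : ∀ q x y, hm (Φ q *ᵥ x) (Φ q *ᵥ y) = hm x y := by
    intro q x y
    rw [hΦ]
    simp only [← mulVec_mulVec]
    rw [hgp, hDp]
  -- the possible images
  obtain ⟨S, hS⟩ : ∃ S : Set ((Fin 6 → F) × (Fin 6 → F) × (Fin 6 → F)), ∀ t, t ∈ S ↔
      (A *ᵥ t.1 = t.1 ∧ hm t.1 t.1 = 1) ∧ (A *ᵥ t.2.1 = t.2.1 ∧ hm t.2.1 t.2.1 = 1) ∧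
      hm t.2.1 t.1 = 0 ∧ (A *ᵥ (A *ᵥ t.2.2) + w • (A *ᵥ t.2.2) + t.2.2 = 0 ∧ t.2.2 ≠ 0) :=
    ⟨{t | (A *ᵥ t.1 = t.1 ∧ hm t.1 t.1 = 1) ∧ (A *ᵥ t.2.1 = t.2.1 ∧ hm t.2.1 t.2.1 = 1) ∧
      hm t.2.1 t.1 = 0 ∧ (A *ᵥ (A *ᵥ t.2.2) + w • (A *ᵥ t.2.2) + t.2.2 = 0 ∧ t.2.2 ≠ 0)},
      fun _ => Iff.rfl⟩
  obtain ⟨p, hp⟩ : ∃ p : Fin 6 → F, p = ![1, 0, 1, w, w, 0] := ⟨_, rfl⟩
  have hmemS : ∀ q, (Φ q *ᵥ lVec, Φ q *ᵥ uVec, Φ q *ᵥ p) ∈ S := by
    intro q
    have hc : ∀ x, A *ᵥ (Φ q *ᵥ x) = Φ q *ᵥ (A *ᵥ x) := fun x => by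
      rw [mulVec_mulVec, ← (hΦc q).eq, ← mulVec_mulVec]
    have hl : A *ᵥ lVec = (lVec : Fin 6 → F) := by
      rw [hAx]; funext i; fin_cases i <;> simp [sh, lVec]
    have hu : A *ᵥ uVec = (uVec : Fin 6 → F) := by
      rw [hAx]; funext i; fin_cases i <;> simp [sh, uVec]
    refine (hS _).2 ⟨⟨by rw [hc, hl], ?_⟩, ⟨by rw [hc, hu], ?_⟩, ?_, ?_, ?_⟩
    · rw [hΦp]; simp [hm, hermForm, lVec, Fin.sum_univ_succ]
    · rw [hΦp]; simp [hm, hermForm, uVec, Fin.sum_univ_succ]; grind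
    · rw [hΦp]; simp [hm, hermForm, uVec, lVec, Fin.sum_univ_succ]
    · have hpA : A *ᵥ (A *ᵥ p) + w • (A *ᵥ p) + p = 0 := by
        rw [hp, hAx, hAx]; funext i; fin_cases i <;> simp [sh] <;> grind
      dsimp only
      rw [hc, hc, ← mulVec_smul, ← mulVec_add, ← mulVec_add, hpA, mulVec_zero]
    · intro h0
      dsimp only at h0
      have h := hΦp q p (A *ᵥ ![1, 0, 1, w ^ 2, w ^ 2, 0])
      rw [h0, hm_zeroL, hAx, hp] at h
      simp [hm, hermForm, sh, Fin.sum_univ_succ] at h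
      grind
  have hinj : Function.Injective fun q => (⟨_, hmemS q⟩ : ↥S) := by
    rintro ⟨g, m⟩ ⟨g', m'⟩ h
    have h' := congrArg Subtype.val h
    simp only [Prod.mk.injEq] at h'
    obtain ⟨el, eu, ep⟩ := h'
    obtain ⟨hi, hidef⟩ : ∃ hi, hi = Dm m'⁻¹ * mat ((g' : SU 6 F 2)⁻¹) := ⟨_, rfl⟩
    have hcancel : hi * Φ (g', m') = 1 := by
      rw [hidef, hΦ]
      simp only
      rw [mul_assoc, ← mul_assoc (mat _) (mat _), ← mat_mul, inv_mul_cancel, mat_one, one_mul, hDm,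
        Matrix.diagonal_mul_diagonal, ← Matrix.diagonal_one]
      congr 1
      funext i
      fin_cases i <;> simp
    have hM := five_free hF hw3 hws (M := hi * Φ (g, m)) ?_ ?_
      (by rw [← mulVec_mulVec, eu, mulVec_mulVec, hcancel, one_mulVec])
      (by rw [← mulVec_mulVec, el, mulVec_mulVec, hcancel, one_mulVec])
      (by rw [← hp, ← mulVec_mulVec, ep, mulVec_mulVec, hcancel, one_mulVec])
    · have e : Φ (g, m) = Φ (g', m') := by
        have h1 : Φ (g', m') * hi = 1 := mul_eq_one_comm.1 hcancel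
        calc Φ (g, m) = Φ (g', m') * hi * Φ (g, m) := by rw [h1, one_mul]
          _ = Φ (g', m') := by rw [mul_assoc, hM, mul_one]
      rw [hΦ] at e
      simp only at e
      have hdet := congrArg Matrix.det e
      rw [Matrix.det_mul, Matrix.det_mul, show (mat (g : SU 6 F 2)).det = 1 from
        (g : SU 6 F 2).1.2, show (mat (g' : SU 6 F 2)).det = 1 from (g' : SU 6 F 2).1.2, one_mul,
        one_mul, hDm, Matrix.det_diagonal, Matrix.det_diagonal] at hdet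
      simp [Fin.prod_univ_succ] at hdet
      obtain rfl : m = m' := Units.ext hdet
      have e2 : mat (g : SU 6 F 2) * (Dm m * Dm m⁻¹) = mat (g' : SU 6 F 2) * (Dm m * Dm m⁻¹) := by
        rw [← mul_assoc, ← mul_assoc, e]
      have hone : Dm m * Dm m⁻¹ = 1 := by
        rw [hDm, Matrix.diagonal_mul_diagonal, ← Matrix.diagonal_one]
        congr 1
        funext i
        fin_cases i <;> simp
      rw [hone, mul_one, mul_one] at e2
      exact Prod.ext (Subtype.ext (mat_inj e2)) rfl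
    · rw [hA]
      refine Commute.mul_left ?_ (hΦc _)
      rw [hidef]
      refine Commute.mul_left ?_ ?_
      · refine Matrix.toLin'.injective (LinearMap.ext fun x => ?_)
        simp only [Matrix.toLin'_apply, ← mulVec_mulVec, hAx, hDx]
        funext i
        fin_cases i <;> simp [sh]
      · show _ = _
        rw [← hA, ← mat_mul, ← mat_mul,
          Subgroup.mem_centralizer_singleton_iff.1 (hC ▸ inv_mem g'.2)]
    · intro x y
      rw [← mulVec_mulVec, ← mulVec_mulVec, hidef, ← mulVec_mulVec, ← mulVec_mulVec, hDp, hgp, hΦp]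
  have hcardS : Nat.card ↥S ≤ 270 := by
    have hfix : ∀ x, A *ᵥ x = x → x 0 = x 1 ∧ x 1 = x 2 ∧ x 2 = x 3 ∧ x 3 = x 4 := by
      intro x hx
      rw [hAx] at hx
      exact ⟨by simpa [sh] using congrFun hx 1, by simpa [sh] using congrFun hx 2,
        by simpa [sh] using congrFun hx 3, by simpa [sh] using congrFun hx 4⟩
    have hdata : ∀ t : ↥S, (t.1.1 0 + t.1.1 5 ≠ 0) ∧ (t.1.2.1 0 + t.1.2.1 5 ≠ 0) ∧
        ((t.1.1 0 = 0 ∧ t.1.2.1 5 = 0) ∨ (t.1.1 5 = 0 ∧ t.1.2.1 0 = 0)) := by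
      intro t
      obtain ⟨⟨ha, na⟩, ⟨hb, nb⟩, hab, -⟩ := (hS t.1).1 t.2
      obtain ⟨a1, a2, a3, a4⟩ := hfix _ ha
      obtain ⟨b1, b2, b3, b4⟩ := hfix _ hb
      simp [hm, hermForm, Fin.sum_univ_succ, ← a4, ← a3, ← a2, ← a1, ← b4, ← b3, ← b2, ← b1]
        at na nb hab
      have key : ∀ a f : F, a * a ^ 2 + f * f ^ 2 = 1 → (a = 0 ∧ f ≠ 0) ∨ (f = 0 ∧ a ≠ 0) := by
        intro a f h
        by_cases ha0 : a = 0
        · refine Or.inl ⟨ha0, fun hf => ?_⟩
          rw [ha0, hf] at h; simp at h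
        · by_cases hf0 : f = 0
          · exact Or.inr ⟨hf0, ha0⟩
          · rw [← pow_succ', ← pow_succ', F4.cube_eq_one hF ha0, F4.cube_eq_one hF hf0,
              F4.two_eq_zero hF] at h
            exact absurd h zero_ne_one
      have ka := key (t.1.1 0) (t.1.1 5) (by grind)
      have kb := key (t.1.2.1 0) (t.1.2.1 5) (by grind)
      have hab' : t.1.2.1 0 * t.1.1 0 ^ 2 + t.1.2.1 5 * t.1.1 5 ^ 2 = 0 := by grind
      rcases ka with ⟨a0, af⟩ | ⟨af, a0⟩ <;> rcases kb with ⟨b0, bf⟩ | ⟨bf, b0⟩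
      · rw [a0, b0] at hab'; simp [bf, af] at hab'
      · exact ⟨by rw [a0, zero_add]; exact af, by rw [bf, add_zero]; exact b0, Or.inl ⟨a0, bf⟩⟩
      · exact ⟨by rw [af, add_zero]; exact a0, by rw [b0, zero_add]; exact bf, Or.inr ⟨af, b0⟩⟩
      · rw [af, bf] at hab'; simp [a0, b0] at hab'
    have hW : ∀ t : ↥S, (t.1.2.2 0, t.1.2.2 1) ≠ (0, 0) ∧ t.1.2.2 2 = t.1.2.2 0 + w * t.1.2.2 1 ∧
        t.1.2.2 3 = t.1.2.2 1 + w * t.1.2.2 2 ∧ t.1.2.2 4 = t.1.2.2 2 + w * t.1.2.2 3 ∧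
        t.1.2.2 5 = 0 := by
      intro t
      obtain ⟨-, -, -, ht, ht0⟩ := (hS t.1).1 t.2
      rw [hAx, hAx] at ht
      have r2 := congrFun ht 2
      have r3 := congrFun ht 3
      have r4 := congrFun ht 4
      have r5 := congrFun ht 5
      simp [sh] at r2 r3 r4 r5
      have q2 : t.1.2.2 2 = t.1.2.2 0 + w * t.1.2.2 1 := by grind
      have q3 : t.1.2.2 3 = t.1.2.2 1 + w * t.1.2.2 2 := by grind
      have q4 : t.1.2.2 4 = t.1.2.2 2 + w * t.1.2.2 3 := by grind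
      have q5 : t.1.2.2 5 = 0 := by grind
      refine ⟨fun h => ht0 ?_, q2, q3, q4, q5⟩
      simp only [Prod.mk.injEq] at h
      funext i
      fin_cases i <;> simp [h.1, h.2, q2, q3, q4, q5]
    let f : ↥S → Bool × Fˣ × Fˣ × {q : F × F // q ≠ (0, 0)} := fun t =>
      (decide (t.1.1 0 = 0), Units.mk0 _ (hdata t).1, Units.mk0 _ (hdata t).2.1,
        ⟨_, (hW t).1⟩)
    have hf : Function.Injective f := by
      intro s t h
      simp only [f, Prod.mk.injEq, decide_eq_decide, Units.mk0_inj, Subtype.mk.injEq] at h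
      obtain ⟨h1, h2, h3, h4, h5⟩ := h
      obtain ⟨-, -, ds⟩ := hdata s
      obtain ⟨na, -, dt⟩ := hdata t
      obtain ⟨ns, -, -⟩ := hdata s
      obtain ⟨⟨sa, -⟩, ⟨sb, -⟩, -⟩ := (hS s.1).1 s.2
      obtain ⟨⟨ta, -⟩, ⟨tb, -⟩, -⟩ := (hS t.1).1 t.2
      obtain ⟨a1, a2, a3, a4⟩ := hfix _ sa
      obtain ⟨b1, b2, b3, b4⟩ := hfix _ sb
      obtain ⟨c1, c2, c3, c4⟩ := hfix _ ta
      obtain ⟨d1, d2, d3, d4⟩ := hfix _ tb
      obtain ⟨-, s2, s3, s4, s5⟩ := hW s
      obtain ⟨-, t2, t3, t4, t5⟩ := hW t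
      have k : s.1.1 0 = t.1.1 0 ∧ s.1.1 5 = t.1.1 5 ∧ s.1.2.1 0 = t.1.2.1 0 ∧
          s.1.2.1 5 = t.1.2.1 5 := by
        by_cases h0 : s.1.1 0 = 0
        · have h0' := h1.1 h0
          have hs : s.1.2.1 5 = 0 := by
            rcases ds with h | h
            · exact h.2
            · exact absurd (by rw [h0, h.1, add_zero]) ns
          have ht : t.1.2.1 5 = 0 := by
            rcases dt with h | h
            · exact h.2
            · exact absurd (by rw [h0', h.1, add_zero]) na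
          rw [h0, h0', zero_add, zero_add] at h2
          rw [hs, ht, add_zero, add_zero] at h3
          exact ⟨h0.trans h0'.symm, h2, h3, hs.trans ht.symm⟩
        · have h0' : t.1.1 0 ≠ 0 := fun h => h0 (h1.2 h)
          obtain ⟨hs1, hs2⟩ : s.1.1 5 = 0 ∧ s.1.2.1 0 = 0 := ds.resolve_left fun h => h0 h.1
          obtain ⟨ht1, ht2⟩ : t.1.1 5 = 0 ∧ t.1.2.1 0 = 0 := dt.resolve_left fun h => h0' h.1
          rw [hs1, ht1, add_zero, add_zero] at h2
          rw [hs2, ht2, zero_add, zero_add] at h3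
          exact ⟨h2, hs1.trans ht1.symm, hs2.trans ht2.symm, h3⟩
      obtain ⟨k1, k2, k3, k4⟩ := k
      refine Subtype.ext (Prod.ext ?_ (Prod.ext ?_ ?_))
      · funext i
        fin_cases i
        exacts [k1, a1.symm.trans (k1.trans c1),
          a2.symm.trans (a1.symm.trans (k1.trans (c1.trans c2))),
          a3.symm.trans (a2.symm.trans (a1.symm.trans (k1.trans (c1.trans (c2.trans c3))))),
          a4.symm.trans (a3.symm.trans (a2.symm.trans (a1.symm.trans (k1.trans (c1.trans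
            (c2.trans (c3.trans c4))))))), k2]
      · funext i
        fin_cases i
        exacts [k3, b1.symm.trans (k3.trans d1),
          b2.symm.trans (b1.symm.trans (k3.trans (d1.trans d2))),
          b3.symm.trans (b2.symm.trans (b1.symm.trans (k3.trans (d1.trans (d2.trans d3))))),
          b4.symm.trans (b3.symm.trans (b2.symm.trans (b1.symm.trans (k3.trans (d1.trans
            (d2.trans (d3.trans d4))))))), k4]
      · have e2 : s.1.2.2 2 = t.1.2.2 2 := by rw [s2, t2, h4, h5]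
        have e3 : s.1.2.2 3 = t.1.2.2 3 := by rw [s3, t3, h5, e2]
        have e4 : s.1.2.2 4 = t.1.2.2 4 := by rw [s4, t4, e2, e3]
        funext i
        fin_cases i
        exacts [h4, h5, e2, e3, e4, s5.trans t5.symm]
    have hc := Nat.card_le_card_of_injective f hf
    have hq : Nat.card {q : F × F // q ≠ (0, 0)} = 15 := by
      rw [Nat.card_eq_fintype_card, Fintype.card_subtype_compl, Fintype.card_subtype_eq,
        Fintype.card_prod, hF]
    rw [Nat.card_prod, Nat.card_prod, Nat.card_prod, hq, Nat.card_units,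
      Nat.card_eq_fintype_card (α := F), hF, Nat.card_eq_fintype_card (α := Bool),
      Fintype.card_bool] at hc
    omega
  have h := (Nat.card_le_card_of_injective _ hinj).trans hcardS
  rw [Nat.card_prod, Nat.card_units, Nat.card_eq_fintype_card (α := F), hF] at h
  omega

/-- The centralizer of the five-cycle in `PSU(6, 2)` has order at most thirty. -/
theorem psu_five_centralizer :
    Nat.card ↥(Subgroup.centralizer ({(QuotientGroup.mk (fiveSU hF) : PSU 6 F 2)} :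
      Set (PSU 6 F 2))) ≤ 30 := by
  obtain ⟨a, hadef⟩ : ∃ a, fiveSU hF = a := ⟨_, rfl⟩
  have ha : a ^ 5 = 1 := hadef ▸ five_pow hF
  rw [hadef]
  obtain ⟨C, hC⟩ : ∃ C : Subgroup (SU 6 F 2), C = Subgroup.centralizer ({a} : Set (SU 6 F 2)) :=
    ⟨_, rfl⟩
  obtain ⟨f, hf⟩ : ∃ f : ↥C →* PSU 6 F 2,
      f = (QuotientGroup.mk' (Subgroup.center (SU 6 F 2))).comp C.subtype := ⟨_, rfl⟩
  have hlift : ∀ y ∈ Subgroup.centralizer ({(QuotientGroup.mk a : PSU 6 F 2)} : Set (PSU 6 F 2)),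
      y ∈ f.range := by
    intro y hy
    obtain ⟨g, rfl⟩ := QuotientGroup.mk_surjective y
    rw [Subgroup.mem_centralizer_singleton_iff, ← QuotientGroup.mk_mul, ← QuotientGroup.mk_mul] at hy
    obtain ⟨z, hzdef⟩ : ∃ z, z = (g * a)⁻¹ * (a * g) := ⟨_, rfl⟩
    have hzc : z ∈ Subgroup.center (SU 6 F 2) := by rw [hzdef]; exact QuotientGroup.eq.1 hy
    have e : g⁻¹ * a * g = a * z := by rw [hzdef]; simp [mul_assoc]
    have h3 := center_cube hF hzc
    have h5 : z ^ 5 = 1 := by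
      have e5 : (g⁻¹ * a * g) ^ 5 = 1 := by
        have := conj_pow (a := g⁻¹) (b := a) (i := 5)
        rw [inv_inv] at this
        rw [this, ha]; simp
      rw [e, (show Commute a z from Subgroup.mem_center_iff.1 hzc a).mul_pow, ha, one_mul] at e5
      exact e5
    have z1 : z = 1 := by
      rw [show z = (z ^ 3) ^ 2 * (z ^ 5)⁻¹ by group, h3, h5]; simp
    rw [z1, mul_one] at e
    have hga : g * a = a * g := by
      conv_lhs => rw [← e]
      simp [mul_assoc]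
    exact ⟨⟨g, by rw [hC, Subgroup.mem_centralizer_singleton_iff]; exact hga⟩, by rw [hf]; rfl⟩
  have hscal : ∃ z : ↥(SU 6 F 2), z ∈ Subgroup.center (SU 6 F 2) ∧ orderOf z = 3 := by
    haveI : Fact (Nat.Prime 3) := ⟨Nat.prime_three⟩
    have hw1 : w ≠ 1 := fun h => by
      rw [h, one_pow, F4.two_eq_zero hF] at hws
      exact zero_ne_one hws
    have hdet : (w • (1 : Matrix (Fin 6) (Fin 6) F)).det = 1 := by
      rw [Matrix.det_smul, Matrix.det_one, mul_one, Fintype.card_fin,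
        show (6 : ℕ) = 3 * 2 from rfl, pow_mul, hw3, one_pow]
    obtain ⟨z, hz⟩ : ∃ z : ↥(SU 6 F 2), mat z = w • (1 : Matrix (Fin 6) (Fin 6) F) :=
      ⟨⟨(⟨_, hdet⟩ : Matrix.SpecialLinearGroup (Fin 6) F), (mem_SU_iff _).2 fun u v => by
        show hm ((w • (1 : Matrix (Fin 6) (Fin 6) F)) *ᵥ u) ((w • (1 : Matrix (Fin 6) (Fin 6) F)) *ᵥ v)
          = hm u v
        rw [smul_mulVec, smul_mulVec, one_mulVec, one_mulVec, hm_smulL, hm_smulR, ← mul_assoc,
          ← pow_succ', hw3, one_mul]⟩, rfl⟩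
    refine ⟨z, scalar_mem_center ⟨w, hz⟩, orderOf_eq_prime (mat_inj ?_) fun h => hw1 ?_⟩
    · rw [mat_pow, hz, smul_pow, one_pow, hw3, one_smul, mat_one]
    · rw [h, mat_one] at hz
      have := congrFun (congrFun hz 0) 0
      simpa using this.symm
  obtain ⟨z, hzc, hz3⟩ := hscal
  have hzC : z ∈ C := by
    rw [hC, Subgroup.mem_centralizer_singleton_iff]
    exact (Subgroup.mem_center_iff.1 hzc a).symm
  have hker : 3 ≤ Nat.card ↥f.ker := by
    have hk : (⟨z, hzC⟩ : ↥C) ∈ f.ker := by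
      rw [MonoidHom.mem_ker, hf]
      exact (QuotientGroup.eq_one_iff _).2 hzc
    have hd := orderOf_dvd_natCard (⟨_, hk⟩ : ↥f.ker)
    rw [Subgroup.orderOf_mk, Subgroup.orderOf_mk, hz3] at hd
    exact Nat.le_of_dvd Nat.card_pos hd
  have h1 := f.ker.card_mul_index
  rw [Subgroup.index_ker] at h1
  have h2 : Nat.card ↥C ≤ 90 := by rw [hC, ← hadef]; exact five_card_centralizer hF hw3 hws
  have h3 := Subgroup.card_le_of_le (K := f.range) hlift
  nlinarith

end CfsgLib.ThreeTransp.PSU62.Five43
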